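import Groth.Agent.SchDom.Scheme
import Groth.Agent.GrpScheme.Component
import Groth.Agent.GrpScheme.SubgroupObj

/-!
# Schematic images of quasi-compact homomorphisms of group schemes over a field
-/

set_option autoImplicit false
set_option linter.style.haveILetI false
set_option backward.isDefEq.respectTransparency false
set_option backward.isDefEq.respectTransparency.types false
set_option synthInstance.maxHeartbeats 200000

universe u

open CategoryTheory CategoryTheory.Limits MonoidalCategory CartesianMonoidalCategory MonObj GrpObj AlgebraicGeometry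
open Groth.Agent.GrpScheme
open Groth.Agent.GrpScheme.Component (IsMaxGen)

noncomputable section

namespace Groth.Agent.GrpImage19

/-- Schematically dominant. -/
def SD1 {Z X : Scheme.{u}} (f : Z ⟶ X) : Prop := ∀ (V : X.Opens) (t : Γ(X, V)), f.app V t = 0 → t = 0

lemma SD1.comp {Z Y X : Scheme.{u}} {g : Z ⟶ Y} {f : Y ⟶ X} (hg : SD1 g) (hf : SD1 f) : SD1 (g ≫ f) :=
  fun V t h => hf V t (hg _ _ h)

lemma SD1.of_comp {Z Y X : Scheme.{u}} (g : Z ⟶ Y) {f : Y ⟶ X} (h : SD1 (g ≫ f)) : SD1 f :=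
  fun V t ht => h V t (by rw [Scheme.Hom.comp_app, CommRingCat.comp_apply, ht, map_zero])

lemma sd1_of_isIso {Z X : Scheme.{u}} (f : Z ⟶ X) [IsIso f] : SD1 f := fun V t h =>
  (map_eq_zero_iff _ (ConcreteCategory.bijective_of_isIso (f.app V)).1).1 h

lemma sd1_of_ker_eq_bot {Z X : Scheme.{u}} (f : Z ⟶ X) [QuasiCompact f] (h : f.ker = ⊥) : SD1 f := by
  intro V t ht
  obtain ⟨J, U, hU⟩ : ∃ (J : Type u) (U : J → X.affineOpens), ⨆ i, (U i).1 = V := by
    refine ⟨{U : X.affineOpens // U.1 ≤ V}, fun U => U.1, le_antisymm (iSup_le fun U => U.2) fun x hx => ?_⟩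
    obtain ⟨W, hW, hxW, hWV⟩ := exists_isAffineOpen_mem_and_subset (x := x) (U := V) hx
    exact TopologicalSpace.Opens.mem_iSup.2 ⟨⟨⟨W, hW⟩, hWV⟩, hxW⟩
  refine X.IsSheaf.section_ext fun x hx => ?_
  rw [← hU] at hx
  obtain ⟨i, hi⟩ := TopologicalSpace.Opens.mem_iSup.1 hx
  have hle : (U i).1 ≤ V := hU ▸ le_iSup (fun i => (U i).1) i
  refine ⟨(U i).1, hle, hi, ?_⟩
  have h1 : (f.app (U i).1) (X.presheaf.map (homOfLE hle).op t) = 0 := by
    have := congr($(f.naturality (homOfLE hle).op) t)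
    simp only [CommRingCat.comp_apply] at this
    rw [this, ht, map_zero]
  have h2 : RingHom.ker (f.app (U i).1).hom = ⊥ := by rw [← f.ker_apply, h]; rfl
  have h3 : X.presheaf.map (homOfLE hle).op t = 0 := by
    have : X.presheaf.map (homOfLE hle).op t ∈ RingHom.ker (f.app (U i).1).hom := h1
    rwa [h2] at this
  rw [h3, map_zero]

lemma ker_eq_bot_of_sd1 {Z X : Scheme.{u}} (f : Z ⟶ X) [QuasiCompact f] (h : SD1 f) : f.ker = ⊥ := by
  ext1
  funext U
  rw [f.ker_apply]
  exact le_bot_iff.1 fun t ht => h _ t ht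

lemma sd1_of_toImage {Z X : Scheme.{u}} (f : Z ⟶ X) [QuasiCompact f] : SD1 f.toImage := by
  intro V t ht
  refine f.image.IsSheaf.section_ext fun x hx => ?_
  obtain ⟨_, ⟨_, ⟨U, hU, rfl⟩, rfl⟩, hxU, hUV⟩ :=
    (X.isBasis_affineOpens.of_isInducing f.imageι.isEmbedding.isInducing).exists_subset_of_mem_open hx V.2
  have hWV : f.imageι ⁻¹ᵁ U ≤ V := hUV
  refine ⟨f.imageι ⁻¹ᵁ U, hWV, hxU, ?_⟩
  have h1 : f.toImage.app (f.imageι ⁻¹ᵁ U) (f.image.presheaf.map (homOfLE hWV).op t) = 0 := by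
    have := congr($(f.toImage.naturality (homOfLE hWV).op) t)
    simp only [CommRingCat.comp_apply] at this
    rw [this, ht, map_zero]
  have h2 := f.toImage_app_injective ⟨U, hU⟩ (h1.trans (map_zero _).symm)
  rw [h2, map_zero]

/-- A quasi-compact dominant morphism hits all maximal points. -/
theorem mem_range_of_isMaxGen {Z X : Scheme.{u}} (f : Z ⟶ X) [QuasiCompact f] [IsDominant f] {a : X}
    (ha : IsMaxGen a) : a ∈ Set.range f := by
  obtain ⟨U, hU, haU, -⟩ := exists_isAffineOpen_mem_and_subset (x := a) (U := ⊤) trivial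
  have hc : IsCompact ((f ⁻¹ᵁ U : Z.Opens) : Set Z) := QuasiCompact.isCompact_preimage _ U.2 hU.isCompact
  obtain ⟨s, hs, hfin, hcov⟩ := Scheme.isBasis_affineOpens Z |>.exists_finite_of_isCompact hc
  have hcl : a ∈ closure (⋃ V ∈ s, f '' (V.1 : Set Z)) := by
    have h1 : a ∈ closure ((U : Set X) ∩ Set.range f) :=
      U.2.inter_closure ⟨haU, f.denseRange.closure_range ▸ trivial⟩
    refine closure_mono ?_ h1
    rintro y ⟨hy, z, rfl⟩
    have hz : z ∈ f ⁻¹ᵁ U := hy
    rw [hcov] at hz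
    obtain ⟨V, hV, hzV⟩ := TopologicalSpace.Opens.mem_sSup.1 hz
    exact Set.mem_iUnion₂.2 ⟨V, hV, z, hzV, rfl⟩
  rw [hfin.closure_biUnion] at hcl
  obtain ⟨V, hV, haV⟩ := Set.mem_iUnion₂.1 hcl
  have hVa : IsAffineOpen V := hs hV
  have hVU : V ≤ f ⁻¹ᵁ U := hcov ▸ le_sSup hV
  obtain ⟨p, hp⟩ := hU.range_fromSpec.ge haU
  let g := f.appLE U V hVU
  have hg : Spec.map g ≫ hU.fromSpec = hVa.fromSpec ≫ f := hU.SpecMap_appLE_fromSpec f hVa hVU
  have himg : f '' (V : Set Z) = hU.fromSpec '' Set.range (PrimeSpectrum.comap g.hom) := by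
    rw [← hVa.range_fromSpec, ← Set.range_comp, ← Set.range_comp]
    refine congrArg Set.range (funext fun q => ?_)
    show f (hVa.fromSpec q) = hU.fromSpec ((Spec.map g) q)
    rw [← Scheme.Hom.comp_apply, ← Scheme.Hom.comp_apply, hg]
  haveI : IsOpenImmersion hU.fromSpec := IsAffineOpen.isOpenImmersion_fromSpec _
  change a ∈ closure (f '' (V : Set Z)) at haV
  rw [himg] at haV
  have hpc : p ∈ closure (Set.range (PrimeSpectrum.comap g.hom)) := by
    rw [hU.fromSpec.isOpenEmbedding.isInducing.closure_eq_preimage_closure_image, Set.mem_preimage, hp]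
    exact haV
  rw [PrimeSpectrum.closure_range_comap] at hpc
  have hle : RingHom.ker g.hom ≤ p.asIdeal := hpc
  have hmin : p.asIdeal ∈ (Ideal.comap g.hom ⊥).minimalPrimes := by
    refine ⟨⟨p.2, hle⟩, fun q hq hqp => ?_⟩
    have h2 : (⟨q, hq.1⟩ : PrimeSpectrum Γ(X, U)) ⤳ p := (PrimeSpectrum.le_iff_specializes _ _).1 hqp
    have h3 := ha _ ((h2.map hU.fromSpec.continuous).trans (specializes_of_eq hp))
    rw [← hp] at h3
    exact (congrArg PrimeSpectrum.asIdeal (hU.fromSpec.isOpenEmbedding.injective h3)).ge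
  obtain ⟨q, hq, -, hqp⟩ := Ideal.exists_comap_eq_of_mem_minimalPrimes g.hom p.asIdeal hmin
  refine ⟨hVa.fromSpec ⟨q, hq⟩, ?_⟩
  rw [← Scheme.Hom.comp_apply, ← hg, Scheme.Hom.comp_apply, ← hp]
  exact congrArg hU.fromSpec (PrimeSpectrum.ext hqp)

variable {k : Type u} [Field k]

local notation "Sk" => Spec (CommRingCat.of k)

lemma sd1_map {A B Y : Scheme.{u}} (f : A ⟶ B) (p : B ⟶ Spec (CommRingCat.of k))
    (g : Y ⟶ Spec (CommRingCat.of k)) (q : pullback (f ≫ p) g ⟶ pullback p g)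
    (h₁ : q ≫ pullback.fst p g = pullback.fst (f ≫ p) g ≫ f)
    (h₂ : q ≫ pullback.snd p g = pullback.snd (f ≫ p) g) (h : SD1 f) : SD1 q := by
  have hs := SchDom.univ_of_field (fun _ : PUnit.{u + 1} => f) p g (fun V t ht => h V t (ht ⟨⟩))
  have he : q = SchDom.fMap p g (fun _ : PUnit.{u + 1} => f) ⟨⟩ :=
    pullback.hom_ext (h₁.trans (SchDom.fMap_fst p g (fun _ : PUnit.{u + 1} => f) ⟨⟩).symm)
      (h₂.trans (SchDom.fMap_snd p g (fun _ : PUnit.{u + 1} => f) ⟨⟩).symm)
  subst he
  exact fun V t ht => hs V t fun _ => ht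

lemma sd1_whiskerRight {A B : Over (Spec (CommRingCat.of k))} (f : A ⟶ B) (h : SD1 f.left)
    (Y : Over (Spec (CommRingCat.of k))) : SD1 (f ▷ Y).left := by
  let e : pullback (f.left ≫ B.hom) Y.hom ⟶ (A ⊗ Y).left :=
    pullback.map _ _ A.hom Y.hom (𝟙 _) (𝟙 _) (𝟙 _) (by rw [Category.comp_id, Category.id_comp, Over.w f]) (by simp)
  refine SD1.of_comp e (sd1_map f.left B.hom Y.hom (e ≫ (f ▷ Y).left) ?_ ?_ h)
  · rw [Category.assoc, Over.whiskerRight_left_fst, ← Category.assoc, pullback.lift_fst, Category.comp_id]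
  · rw [Category.assoc, Over.whiskerRight_left_snd, pullback.lift_snd, Category.comp_id]

lemma sd1_tensorHom {A B : Over (Spec (CommRingCat.of k))} (f : A ⟶ B) (h : SD1 f.left) :
    SD1 (f ⊗ₘ f).left := by
  have e : f ⊗ₘ f = (f ▷ A) ≫ (β_ B A).hom ≫ (f ▷ B) ≫ (β_ B B).hom := by
    refine CartesianMonoidalCategory.hom_ext _ _ ?_ ?_ <;> simp
  haveI := Basic.isIso_left (β_ B A).hom
  haveI := Basic.isIso_left (β_ B B).hom
  rw [e, Over.comp_left, Over.comp_left, Over.comp_left]
  exact (sd1_whiskerRight f h A).comp ((sd1_of_isIso _).comp ((sd1_whiskerRight f h B).comp (sd1_of_isIso _)))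

/-- A morphism whose composite with a schematically dominant one factors through a closed subscheme does. -/
lemma exists_lift_of_ker_eq_bot {A B Z G : Over (Spec (CommRingCat.of k))} (d : A ⟶ B) [QuasiCompact d.left]
    (hd : d.left.ker = ⊥) (i : Z ⟶ G) [IsClosedImmersion i.left] (M : B ⟶ G) (w : A ⟶ Z)
    (h : w ≫ i = d ≫ M) : ∃ l : B ⟶ Z, l ≫ i = M := by
  let e := pullback.fst M i
  haveI : IsClosedImmersion e.left :=
    MorphismProperty.of_isPullback ((IsPullback.of_hasPullback M i).map (Over.forget _)).flip ‹IsClosedImmersion i.left›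
  let l₀ : A ⟶ pullback M i := pullback.lift d w h.symm
  have hd' : l₀.left ≫ e.left = d.left := by rw [← Over.comp_left, pullback.lift_fst]
  have hker : e.left.ker = ⊥ := by
    rw [eq_bot_iff, ← hd, ← hd']
    exact l₀.left.le_ker_comp e.left
  haveI : IsIso e.left := by
    haveI : IsIso e.left.imageι := by
      rw [Scheme.Hom.imageι, Scheme.isIso_subschemeι_iff_eq_bot]
      exact hker
    rw [← e.left.toImage_imageι]
    infer_instance
  haveI : IsIso ((Over.forget _).map e) := ‹IsIso e.left›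
  haveI : IsIso e := isIso_of_reflects_iso _ (Over.forget _)
  exact ⟨inv e ≫ pullback.snd M i, by rw [Category.assoc, ← pullback.condition, IsIso.inv_hom_id_assoc]⟩

/-- A quasi-compact dominant homomorphism is surjective. -/
theorem surjective_of_isDominant {H G : Over (Spec (CommRingCat.of k))} [GrpObj H] [GrpObj G] (ψ : H ⟶ G)
    [IsMonHom ψ] [QuasiCompact ψ.left] [IsDominant ψ.left] : Surjective ψ.left := by
  refine ⟨fun x => ?_⟩
  let T := Points.pointObj G x
  haveI : Flat T.hom := inferInstanceAs (Flat (G.left.fromSpecResidueField x ≫ G.hom))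
  obtain ⟨t₀⟩ := (inferInstance : Nonempty T.left)
  obtain ⟨q₀, -⟩ := (Points.snd_surjective_of_field T G).surj x
  obtain ⟨m, hm, -⟩ := Component.exists_isMaxGen q₀
  have hflat : Flat (snd T G).left := Basic.snd_left_mem @Flat (T := T) (X := G) ‹_›
  have hmax : ∀ {p : (T ⊗ G).left}, IsMaxGen p → (snd T G).left p ∈ Set.range ψ.left := by
    intro p hp
    refine mem_range_of_isMaxGen ψ.left fun w hw => ?_
    obtain ⟨p', hp', hpw⟩ := Flat.generalizingMap (snd T G).left hw
    rw [← hpw, hp p' hp']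
  let c : T ⊗ G ⟶ G := fst T G ≫ Points.pointHom G x
  let φ : T ⊗ G ≅ T ⊗ G :=
    { hom := lift (fst T G) ((snd T G)⁻¹ * c)
      inv := lift (fst T G) (c * (snd T G)⁻¹)
      hom_inv_id := by
        refine CartesianMonoidalCategory.hom_ext _ _ (by simp) ?_
        simp [c, MonObj.comp_mul, GrpObj.comp_inv]
      inv_hom_id := by
        refine CartesianMonoidalCategory.hom_ext _ _ (by simp) ?_
        simp [c, MonObj.comp_mul, GrpObj.comp_inv] }
  haveI : IsIso φ.hom := φ.isIso_hom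
  haveI : IsIso φ.hom.left := Basic.isIso_left φ.hom
  have hφ : IsMaxGen (φ.hom.left m) := by
    intro w hw
    obtain ⟨w', rfl⟩ := φ.hom.left.surjective w
    rw [hm w' (φ.hom.left.isOpenEmbedding.isInducing.specializes_iff.1 hw)]
  let pm := Points.pointHom (T ⊗ G) m
  refine Points.mul_mem_range ψ (pm ≫ snd T G) (pm ≫ (snd T G)⁻¹ ≫ 𝟙 _ * pm ≫ c) (fun t => ?_) (fun t => ?_) x
    fun t => ?_
  · rw [Points.comp_apply, Points.pointHom_apply]
    exact hmax hm
  · rw [Category.comp_id, ← MonObj.comp_mul, Points.comp_apply, Points.pointHom_apply,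
      show (snd T G)⁻¹ * c = φ.hom ≫ snd T G by simp [φ], Points.comp_apply]
    exact hmax hφ
  · rw [Category.comp_id, ← MonObj.comp_mul, ← MonObj.comp_mul, mul_inv_cancel_left]
    simp only [c]
    rw [Points.comp_apply, Points.comp_apply, Points.pointHom_apply]

/-- The schematic image of a quasi-compact homomorphism. -/
theorem exists_image {H G : Over (Spec (CommRingCat.of k))} [GrpObj H] [GrpObj G] (f : H ⟶ G) [IsMonHom f]
    [QuasiCompact f.left] :
    ∃ (H' : Over (Spec (CommRingCat.of k))) (_ : GrpObj H') (i : H' ⟶ G) (f' : H ⟶ H'),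
      IsMonHom i ∧ IsMonHom f' ∧ f' ≫ i = f ∧ IsClosedImmersion i.left ∧
      f'.left.ker = ⊥ ∧ QuasiCompact f'.left ∧ Surjective f'.left := by
  let H' : Over Sk := Over.mk (f.left.imageι ≫ G.hom)
  let i : H' ⟶ G := Over.homMk f.left.imageι rfl
  let f' : H ⟶ H' := Over.homMk f.left.toImage (by simp [H'])
  haveI hi : IsClosedImmersion i.left := inferInstanceAs (IsClosedImmersion f.left.imageι)
  haveI : Mono i := Over.mono_of_mono_left i
  haveI : QuasiCompact f'.left := inferInstanceAs (QuasiCompact f.left.toImage)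
  haveI : IsDominant f'.left := inferInstanceAs (IsDominant f.left.toImage)
  have hf : f' ≫ i = f := Over.OverMorphism.ext f.left.toImage_imageι
  have hker : f'.left.ker = ⊥ := by
    ext1
    funext U
    rw [f'.left.ker_apply]
    refine le_bot_iff.1 fun t ht => ?_
    exact (sd1_of_toImage f.left) _ t ht
  have hsd := sd1_of_ker_eq_bot f'.left hker
  haveI : QuasiCompact (f' ⊗ₘ f').left := by
    haveI : QuasiCompact (f' ▷ H).left := Basic.whiskerRight_mem @QuasiCompact f' H ‹_›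
    haveI : QuasiCompact (H' ◁ f').left := Basic.whiskerLeft_mem @QuasiCompact f' H' ‹_›
    rw [MonoidalCategory.tensorHom_def, Over.comp_left]
    infer_instance
  have hker2 : (f' ⊗ₘ f').left.ker = ⊥ := ker_eq_bot_of_sd1 _ (sd1_tensorHom f' hsd)
  obtain ⟨hH, hiM⟩ := SubgroupObj.exists_grpObj i
    (exists_lift_of_ker_eq_bot (f' ⊗ₘ f') hker2 i _ (μ[H] ≫ f') (by
      rw [Category.assoc, hf, IsMonHom.mul_hom, tensorHom_comp_tensorHom_assoc, hf]))
    ⟨η[H] ≫ f', by rw [Category.assoc, hf, IsMonHom.one_hom]⟩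
    (exists_lift_of_ker_eq_bot f' hker i _ (ι[H] ≫ f') (by
      rw [Category.assoc, hf, GrpObj.inv_hom, ← Category.assoc, hf]))
  letI := hH; haveI := hiM
  haveI : IsMonHom f' := by
    refine ⟨?_, ?_⟩
    · rw [← cancel_mono i, Category.assoc, hf, IsMonHom.one_hom, IsMonHom.one_hom]
    · rw [← cancel_mono i, Category.assoc, hf, IsMonHom.mul_hom, Category.assoc, IsMonHom.mul_hom,
        tensorHom_comp_tensorHom_assoc, hf]
  exact ⟨H', hH, i, f', hiM, inferInstance, hf, hi, hker, inferInstance, surjective_of_isDominant f'⟩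

end Groth.Agent.GrpImage19
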